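import Mathlib
import Groth.Agent.S9161

set_option autoImplicit false
universe u
open TensorProduct Algebra

namespace Groth.Agent.CotLocLib

/-- Cotangent complexes of formally smooth extensions are homotopy equivalent, hence the Schanuel-type isomorphism. -/
theorem nonempty_schanuel {R T : Type u} [CommRing R] [CommRing T] [Algebra R T] (P₁ P₂ : Extension.{u} R T)
    [FormallySmooth R P₁.Ring] [FormallySmooth R P₂.Ring] :
    Nonempty ((P₁.Cotangent × P₂.CotangentSpace) ≃ₗ[T] (P₂.Cotangent × P₁.CotangentSpace)) := by
  let f := P₁.homInfinitesimal P₂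
  let g := P₂.homInfinitesimal P₁
  let P := P₁.infinitesimal
  let Q := P₂.infinitesimal
  obtain ⟨e⟩ := Groth.Agent.S9161.result T P.Cotangent P.CotangentSpace Q.Cotangent Q.CotangentSpace
    P.cotangentComplex Q.cotangentComplex (Extension.Cotangent.map f) (Extension.CotangentSpace.map f)
    (Extension.Cotangent.map g) (Extension.CotangentSpace.map g)
    (LinearMap.ext fun x => (Extension.CotangentSpace.map_cotangentComplex f x).symm)
    (LinearMap.ext fun x => (Extension.CotangentSpace.map_cotangentComplex g x).symm)
    ((Extension.Hom.id P).sub (g.comp f))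
    (by
      rw [← Extension.Cotangent.map_sub_map, Extension.Cotangent.map_id, Extension.Cotangent.map_comp]
      rfl)
    (by
      refine Eq.trans ?_ (Extension.CotangentSpace.map_sub_map (Extension.Hom.id P) (g.comp f))
      rw [Extension.CotangentSpace.map_id, Extension.CotangentSpace.map_comp]
      rfl)
    ((Extension.Hom.id Q).sub (f.comp g))
    (by
      rw [← Extension.Cotangent.map_sub_map, Extension.Cotangent.map_id, Extension.Cotangent.map_comp]
      rfl)
    (by
      refine Eq.trans ?_ (Extension.CotangentSpace.map_sub_map (Extension.Hom.id Q) (f.comp g))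
      rw [Extension.CotangentSpace.map_id, Extension.CotangentSpace.map_comp]
      rfl)
  let a₁ : P₁.Cotangent ≃ₗ[T] P.Cotangent := LinearEquiv.ofBijective _ (Extension.Cotangent.map_toInfinitesimal_bijective P₁)
  let a₂ : P₂.Cotangent ≃ₗ[T] Q.Cotangent := LinearEquiv.ofBijective _ (Extension.Cotangent.map_toInfinitesimal_bijective P₂)
  let b₁ : P₁.CotangentSpace ≃ₗ[T] P.CotangentSpace := LinearEquiv.ofBijective _ (Extension.CotangentSpace.map_toInfinitesimal_bijective P₁)
  let b₂ : P₂.CotangentSpace ≃ₗ[T] Q.CotangentSpace := LinearEquiv.ofBijective _ (Extension.CotangentSpace.map_toInfinitesimal_bijective P₂)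
  exact ⟨(a₁.prodCongr b₂).trans (e.trans (a₂.prodCongr b₁).symm)⟩

variable {R S T : Type u} [CommRing R] [CommRing S] [CommRing T] [Algebra R S] [Algebra R T] [Algebra S T]
  [IsScalarTower R S T]

set_option backward.isDefEq.respectTransparency false in
/-- A localisation of a formally smooth extension: cotangent module and cotangent space are base changes. -/
theorem exists_localization (P : Extension.{u} R S) [FormallySmooth R P.Ring] (M : Submonoid S) [IsLocalization M T] :
    ∃ Q : Extension.{u} R T, FormallySmooth R Q.Ring ∧ Nonempty (T ⊗[S] P.Cotangent ≃ₗ[T] Q.Cotangent) ∧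
      Nonempty (T ⊗[S] P.CotangentSpace ≃ₗ[T] Q.CotangentSpace) := by
  let M' := M.comap (algebraMap P.Ring S)
  let fQ : Localization M' →ₐ[R] T := IsLocalization.liftAlgHom (M := M')
    (f := (IsScalarTower.toAlgHom R S T).comp (IsScalarTower.toAlgHom R P.Ring S)) (fun ⟨y, hy⟩ ↦
    by simpa using IsLocalization.map_units T ⟨algebraMap P.Ring S y, hy⟩)
  let Q : Extension R T := .ofSurjective fQ (by
    intro x
    obtain ⟨x, ⟨s, hs⟩, rfl⟩ := IsLocalization.exists_mk'_eq M x
    obtain ⟨x, rfl⟩ := P.algebraMap_surjective x
    obtain ⟨s, rfl⟩ := P.algebraMap_surjective s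
    refine ⟨IsLocalization.mk' _ x ⟨s, show s ∈ M' from hs⟩, ?_⟩
    simp only [fQ, IsLocalization.coe_liftAlgHom, AlgHom.toRingHom_eq_coe]
    rw [IsLocalization.lift_mk'_spec]
    simp)
  let f : P.Hom Q :=
  { toRingHom := algebraMap P.Ring (Localization M')
    toRingHom_algebraMap x := (IsScalarTower.algebraMap_apply R P.Ring (Localization M') _).symm
    algebraMap_toRingHom x := @IsLocalization.lift_eq .. }
  haveI : FormallySmooth P.Ring (Localization M') := .of_isLocalization M'
  haveI hQ : FormallySmooth R Q.Ring := .comp R P.Ring (Localization M')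
  letI : Algebra P.Ring Q.Ring := (inferInstance : Algebra P.Ring (Localization M'))
  letI := ((algebraMap S T).comp (algebraMap P.Ring S)).toAlgebra
  letI := fQ.toRingHom.toAlgebra
  haveI : IsScalarTower P.Ring S T := .of_algebraMap_eq' rfl
  haveI : IsScalarTower P.Ring (Localization M') T :=
    .of_algebraMap_eq fun r ↦ (f.algebraMap_toRingHom r).symm
  haveI : IsLocalizedModule M' (IsScalarTower.toAlgHom P.Ring S T).toLinearMap := by
    rw [isLocalizedModule_iff_isLocalization]
    convert! ‹IsLocalization M T› using 1
    exact Submonoid.map_comap_eq_of_surjective P.algebraMap_surjective _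
  have H₁ : f.toRingHom.FormallyEtale :=
    RingHom.formallyEtale_algebraMap.mpr (FormallyEtale.of_isLocalization (M := M') (Rₘ := Localization M'))
  refine ⟨Q, hQ, ⟨Extension.tensorCotangent f rfl ?_⟩, ⟨Extension.tensorCotangentSpaceOfFormallyEtale f H₁⟩⟩
  let F : P.ker →ₗ[P.Ring] RingHom.ker fQ := f.mapKer rfl
  refine (isLocalizedModule_iff_isBaseChange M' (Localization M') F).mp ?_
  have : (LinearMap.ker <| Algebra.linearMap P.Ring S).localized' (Localization M') M'
      (Algebra.linearMap P.Ring (Localization M')) = RingHom.ker fQ := by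
    rw [LinearMap.localized'_ker_eq_ker_localizedMap (Localization M') M'
      (Algebra.linearMap P.Ring (Localization M'))
      (f' := (IsScalarTower.toAlgHom P.Ring S T).toLinearMap)]
    ext x
    obtain ⟨x, ⟨s, hs⟩, rfl⟩ := IsLocalization.exists_mk'_eq M' x
    simp only [LinearMap.mem_ker, LinearMap.extendScalarsOfIsLocalization_apply', RingHom.mem_ker,
      IsLocalization.coe_liftAlgHom, AlgHom.toRingHom_eq_coe, IsLocalization.lift_mk'_spec,
      RingHom.coe_coe, AlgHom.coe_comp, IsScalarTower.coe_toAlgHom', Function.comp_apply,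
      mul_zero, fQ]
    have : IsLocalization.mk' (Localization M') x ⟨s, hs⟩ =
        IsLocalizedModule.mk' (Algebra.linearMap P.Ring (Localization M')) x ⟨s, hs⟩ := by
      rw [IsLocalization.mk'_eq_iff_eq_mul, mul_comm, ← Algebra.smul_def, ← Submonoid.smul_def,
        IsLocalizedModule.mk'_cancel']
      rfl
    simp [this, ← IsScalarTower.algebraMap_apply]
  have : F = ((LinearEquiv.ofEq _ _ this).restrictScalars P.Ring).toLinearMap ∘ₗ
    P.ker.toLocalized' (Localization M') M' (Algebra.linearMap P.Ring (Localization M')) := by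
    ext; rfl
  rw [this]
  exact IsLocalizedModule.of_linearEquiv _ _ _

end Groth.Agent.CotLocLib
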